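import Groth.Agent.FlatLoc6.Regular
import Mathlib.RingTheory.Filtration
import Mathlib.RingTheory.Localization.AtPrime.Basic
import Mathlib.RingTheory.Flat.Localization
import Mathlib.RingTheory.LocalRing.ResidueField.Ideal

/-!
# An element in all powers of the ideal of a section vanishes on integral fibres
-/

set_option autoImplicit false
set_option linter.style.haveILetI false
set_option maxHeartbeats 1000000

universe u

open TensorProduct IsLocalRing

namespace Groth.Agent.Deform.WeilSection

variable {R B R' : Type u} [CommRing R] [CommRing B] [CommRing R'] [Algebra R B] [Algebra R R']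

/-- An element of every power of the kernel of a section vanishes over any base with integral fibres. -/
theorem tmul_eq_zero_of_mem_pow [IsNoetherianRing R] [Algebra.FiniteType R B] [Module.Flat R B] (ε : B →ₐ[R] R)
    (hdom : ∀ (p : Ideal R') [p.IsPrime], IsDomain (p.ResidueField ⊗[R] B)) {x : B}
    (hx : ∀ n : ℕ, x ∈ RingHom.ker ε ^ n) : (1 : R') ⊗ₜ[R] x = 0 := by
  classical
  haveI : IsNoetherianRing B := Algebra.FiniteType.isNoetherianRing R B
  obtain ⟨⟨a, ha⟩, hax⟩ := (Ideal.mem_iInf_smul_pow_eq_bot_iff (I := RingHom.ker ε) (M := B) x).1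
    (Submodule.mem_iInf _ |>.2 fun n => by rw [smul_eq_mul, Ideal.mul_top]; exact hx n)
  let f : B := 1 - a
  have hfx : f * x = 0 := by rw [sub_mul, one_mul, ← smul_eq_mul a x, hax, sub_self]
  have hεf : ε f = 1 := by rw [map_sub, map_one, RingHom.mem_ker.mp ha, sub_zero]
  by_contra hy
  let y : R' ⊗[R] B := 1 ⊗ₜ[R] x
  have hne : (Submodule.span (R' ⊗[R] B) {y}).annihilator ≠ ⊤ := by
    rw [Ne, Submodule.annihilator_eq_top_iff, Submodule.span_singleton_eq_bot]
    exact hy
  obtain ⟨Q, hQ, hle⟩ := Ideal.exists_le_maximal _ hne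
  haveI := hQ.isPrime
  let p : Ideal R' := Q.comap (algebraMap R' (R' ⊗[R] B))
  let inc : B →ₐ[R] R' ⊗[R] B := Algebra.TensorProduct.includeRight
  let Q₀ : Ideal B := Q.comap inc
  let p₀ : Ideal R := Q₀.under R
  haveI : Q₀.LiesOver p₀ := ⟨rfl⟩
  letI := Localization.AtPrime.algebraOfLiesOver p₀ Q₀
  let A := Localization.AtPrime p₀
  let L := Localization.AtPrime Q₀
  haveI : IsLocalHom (algebraMap A L) := by
    rw [Localization.AtPrime.IsLiesOverAlgebra.algebraMap_eq]
    infer_instance
  haveI : IsNoetherianRing L := IsLocalization.isNoetherianRing Q₀.primeCompl L inferInstance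
  haveI : IsNoetherianRing A := IsLocalization.isNoetherianRing p₀.primeCompl A inferInstance
  haveI : Module.Flat R L := Module.Flat.trans R B L
  haveI : Module.Flat A L := (Module.flat_iff_of_isLocalization A p₀.primeCompl L).mpr ‹_›
  -- the fibre over `p`
  let D := p.ResidueField ⊗[R] B
  haveI : IsDomain D := hdom p
  let ρ : B →ₐ[R] D := Algebra.TensorProduct.includeRight
  have hρf : ρ f ≠ 0 := fun h => by
    let ev := Algebra.TensorProduct.lift (AlgHom.id R p.ResidueField)
      ((Algebra.ofId R p.ResidueField).comp ε) (fun _ _ => Commute.all _ _)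
    have h1 : ev ((1 : p.ResidueField) ⊗ₜ[R] f) = 0 := (congrArg ev h).trans (map_zero _)
    simp [ev, hεf] at h1
  have hρ₀ : ∀ r ∈ p₀, ρ (algebraMap R B r) = 0 := fun r hr => by
    have hr' : algebraMap R R' r ∈ p := by
      show algebraMap R' (R' ⊗[R] B) (algebraMap R R' r) ∈ Q
      rw [← IsScalarTower.algebraMap_apply, ← inc.commutes r]
      exact hr
    rw [ρ.commutes, IsScalarTower.algebraMap_apply R p.ResidueField D, IsScalarTower.algebraMap_apply R R' p.ResidueField,
      Ideal.algebraMap_residueField_eq_zero.mpr hr', map_zero]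
  -- the kernel of the fibre lies in the prime
  have hρQ : ∀ b : B, ρ b = 0 → b ∈ Q₀ := fun b hb => by
    let κQ := Q.ResidueField
    let ψ : p.ResidueField →ₐ[R] κQ :=
      { Ideal.ResidueField.map p Q (algebraMap R' (R' ⊗[R] B)) rfl with
        commutes' := fun r => by
          show Ideal.ResidueField.map p Q _ rfl (algebraMap R p.ResidueField r) = algebraMap R κQ r
          rw [IsScalarTower.algebraMap_apply R R' p.ResidueField, Ideal.ResidueField.map_algebraMap,
            ← IsScalarTower.algebraMap_apply R R' (R' ⊗[R] B), ← IsScalarTower.algebraMap_apply R (R' ⊗[R] B) κQ] }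
    let ev := Algebra.TensorProduct.lift ψ
      ((IsScalarTower.toAlgHom R (R' ⊗[R] B) κQ).comp inc) (fun _ _ => Commute.all _ _)
    have h1 : ev ((1 : p.ResidueField) ⊗ₜ[R] b) = 0 := (congrArg ev hb).trans (map_zero _)
    simp only [ev, Algebra.TensorProduct.lift_tmul, map_one, one_mul, AlgHom.comp_apply,
      IsScalarTower.coe_toAlgHom'] at h1
    exact (Ideal.algebraMap_residueField_eq_zero (I := Q)).mp h1
  -- and in the extension of the maximal ideal of the base
  let πL : L →+* L ⧸ (maximalIdeal A).map (algebraMap A L) := Ideal.Quotient.mk _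
  have hρL : ∀ b : B, ρ b = 0 → algebraMap B L b ∈ (maximalIdeal A).map (algebraMap A L) := fun b hb => by
    let j : p₀.ResidueField →ₐ[R] p.ResidueField :=
      { Ideal.ResidueField.map p₀ p (algebraMap R R') (by
          ext r
          show inc (algebraMap R B r) ∈ Q ↔ algebraMap R' (R' ⊗[R] B) (algebraMap R R' r) ∈ Q
          rw [← IsScalarTower.algebraMap_apply, inc.commutes]) with
        commutes' := fun r => by
          show Ideal.ResidueField.map p₀ p _ _ (algebraMap R p₀.ResidueField r) = algebraMap R p.ResidueField r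
          rw [Ideal.ResidueField.map_algebraMap, ← IsScalarTower.algebraMap_apply] }
    have hj : Function.Injective (j.toLinearMap.lTensor B) :=
      Module.Flat.lTensor_preserves_injective_linearMap j.toLinearMap j.toRingHom.injective
    have h0 : b ⊗ₜ[R] (1 : p₀.ResidueField) = 0 := hj (by
      rw [LinearMap.lTensor_tmul, map_zero]
      show b ⊗ₜ[R] j 1 = 0
      rw [map_one]
      exact (congrArg (TensorProduct.comm R p.ResidueField B) hb).trans (map_zero _))
    let φ : p₀.ResidueField →ₐ[R] L ⧸ (maximalIdeal A).map (algebraMap A L) :=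
      { Ideal.Quotient.lift (maximalIdeal A) (πL.comp (algebraMap A L)) (fun c hc =>
          Ideal.Quotient.eq_zero_iff_mem.mpr (Ideal.mem_map_of_mem _ hc)) with
        commutes' := fun r => by
          show πL (algebraMap A L (algebraMap R A r)) = _
          rw [← IsScalarTower.algebraMap_apply]
          rfl }
    have h1 := congrArg (Algebra.TensorProduct.lift ((Ideal.Quotient.mkₐ R _).comp (IsScalarTower.toAlgHom R B L)) φ
      (fun _ _ => Commute.all _ _)) h0
    simp only [Algebra.TensorProduct.lift_tmul, map_one, mul_one, map_zero, AlgHom.comp_apply,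
      IsScalarTower.coe_toAlgHom', Ideal.Quotient.mkₐ_eq_mk] at h1
    exact Ideal.Quotient.eq_zero_iff_mem.mp h1
  have hreg : FlatLoc6.RegFib A L (algebraMap B L f) := by
    intro n hn
    rw [FlatLoc6.mN, smul_eq_mul, Ideal.mul_top] at hn ⊢
    rw [smul_eq_mul] at hn
    obtain ⟨b, ⟨s, hs⟩, rfl⟩ := IsLocalization.exists_mk'_eq Q₀.primeCompl n
    rw [IsLocalization.mul_mk'_eq_mk'_of_mul, ← Localization.AtPrime.map_eq_maximalIdeal, Ideal.map_map,
      ← IsScalarTower.algebraMap_eq, IsScalarTower.algebraMap_eq R B L, ← Ideal.map_map,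
      IsLocalization.mk'_mem_map_algebraMap_iff] at hn
    obtain ⟨t, ht, htb⟩ := hn
    have h1 : ρ (t * (f * b)) = 0 := by
      have hk : p₀.map (algebraMap R B) ≤ RingHom.ker ρ := Ideal.map_le_iff_le_comap.mpr fun r hr => hρ₀ r hr
      exact hk htb
    rw [map_mul, map_mul, mul_eq_zero, mul_eq_zero] at h1
    have hb : ρ b = 0 := (h1.resolve_left fun h => ht (hρQ t h)).resolve_left hρf
    rw [IsLocalization.mk'_eq_mul_mk'_one]
    exact Ideal.mul_mem_right _ _ (hρL b hb)
  have hL : algebraMap B L x = 0 :=
    isSMulRegular_iff_right_eq_zero_of_smul.mp (FlatLoc6.regular_self hreg) _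
      (by rw [smul_eq_mul, ← map_mul, hfx, map_zero])
  obtain ⟨⟨s, hs⟩, hsx⟩ := (IsLocalization.map_eq_zero_iff Q₀.primeCompl L x).mp hL
  refine hs (hle ?_)
  rw [Submodule.mem_annihilator_span_singleton, smul_eq_mul]
  show inc s * inc x = 0
  rw [← map_mul, hsx, map_zero]

end Groth.Agent.Deform.WeilSection
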