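import Groth.Agent.Deform.WeilSection.Core
import Groth.Agent.Deform.InfNbhd.Projective
import Groth.Agent.S7985
import Groth.Agent.DynLib.Conn
import Mathlib.RingTheory.Smooth.NoetherianDescent

/-!
# Vanishing on a smooth algebra with connected fibres is detected near a section
-/

set_option autoImplicit false
set_option linter.style.haveILetI false
set_option maxHeartbeats 1000000

universe u

open TensorProduct

namespace Groth.Agent.Deform.WeilSection

/-- The content ideal of an element of a module: the values of the linear forms at it. -/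
def content {A M : Type u} [CommRing A] [AddCommGroup M] [Module A M] (x : M) : Ideal A :=
  Ideal.span (Set.range fun φ : M →ₗ[A] A => φ x)

theorem content_le_iff {A M : Type u} [CommRing A] [AddCommGroup M] [Module A M] [Module.Projective A M] (x : M)
    (A' : Type u) [CommRing A'] [Algebra A A'] :
    (1 : A') ⊗ₜ[A] x = 0 ↔ content x ≤ RingHom.ker (algebraMap A A') := by
  constructor
  · intro h
    rw [content, Ideal.span_le]
    rintro _ ⟨φ, rfl⟩
    have h1 := congrArg (TensorProduct.rid A A' ∘ₗ φ.lTensor A' : A' ⊗[A] M →ₗ[A] A') h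
    simpa [Algebra.smul_def] using h1
  · intro h
    obtain ⟨s, hs⟩ := (Module.projective_def (R := A) (P := M)).mp inferInstance
    have hx : ((s x).sum fun m c => c • m) = x := by
      simpa [Finsupp.linearCombination_apply] using hs x
    rw [← hx, Finsupp.sum, TensorProduct.tmul_sum]
    refine Finset.sum_eq_zero fun m _ => ?_
    have h1 : algebraMap A A' (s x m) = 0 := h (Ideal.subset_span ⟨(Finsupp.lapply m).comp s, rfl⟩)
    rw [← TensorProduct.smul_tmul, Algebra.smul_def, h1, zero_mul, TensorProduct.zero_tmul]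

theorem content_map_le {A M M' : Type u} [CommRing A] [AddCommGroup M] [Module A M] [AddCommGroup M'] [Module A M']
    (π : M →ₗ[A] M') (x : M) : content (A := A) (π x) ≤ content (A := A) x := by
  rw [content, Ideal.span_le]
  rintro _ ⟨φ, rfl⟩
  exact Ideal.subset_span ⟨φ.comp π, rfl⟩

/-- A smooth algebra with a section and finitely many elements descends to a noetherian base. -/
theorem exists_descent (R B : Type u) [CommRing R] [CommRing B] [Algebra R B] [Algebra.Smooth R B] (e : B →ₐ[R] R)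
    (s : Finset B) :
    ∃ (R₁ B₁ : Type u) (_ : CommRing R₁) (_ : IsNoetherianRing R₁) (_ : CommRing B₁) (_ : Algebra R₁ B₁)
      (_ : Algebra.Smooth R₁ B₁) (_ : Algebra R₁ R) (χ : B ≃ₐ[R] R ⊗[R₁] B₁) (ε : B₁ →ₐ[R₁] R₁),
      (∀ b, e (χ.symm (1 ⊗ₜ b)) = algebraMap R₁ R (ε b)) ∧ ∀ x ∈ s, ∃ b, χ x = 1 ⊗ₜ b := by
  classical
  obtain ⟨A₀, B₀, _, _, hA₀, hB₀, ⟨Φ⟩⟩ := Algebra.Smooth.exists_subalgebra_fg ℤ R B
  haveI := hB₀
  haveI : Algebra.FiniteType ℤ A₀ := (Subalgebra.fg_iff_finiteType A₀).mp hA₀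
  haveI : IsNoetherianRing A₀ := Algebra.FiniteType.isNoetherianRing ℤ A₀
  let e' : R ⊗[A₀] B₀ →ₐ[R] R := e.comp Φ.symm.toAlgHom
  let e₀ : B₀ →ₐ[A₀] R := (e'.restrictScalars A₀).comp Algebra.TensorProduct.includeRight
  obtain ⟨G, hG⟩ := (inferInstance : Algebra.FiniteType A₀ B₀).out
  choose t ht using fun x : B => TensorProduct.exists_finset (R := A₀) (Φ x)
  let T : Finset R := G.image e₀ ∪ s.biUnion fun x => (t x).image Prod.fst
  let R₁ : Subalgebra A₀ R := Algebra.adjoin A₀ (T : Set R)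
  haveI : Algebra.FiniteType A₀ R₁ := (Subalgebra.fg_iff_finiteType R₁).mp ⟨T, rfl⟩
  haveI : IsNoetherianRing R₁ := Algebra.FiniteType.isNoetherianRing A₀ R₁
  have hrange : ∀ b, e₀ b ∈ R₁ := fun b => by
    have h1 : (Algebra.adjoin A₀ (G : Set B₀)).map e₀ ≤ R₁ := by
      rw [AlgHom.map_adjoin]
      exact Algebra.adjoin_mono (by rintro _ ⟨g, hg, rfl⟩; simp [T]; exact Or.inl ⟨g, hg, rfl⟩)
    exact h1 ⟨b, hG ▸ Algebra.mem_top, rfl⟩
  let ε : R₁ ⊗[A₀] B₀ →ₐ[R₁] R₁ :=
    Algebra.TensorProduct.lift (Algebra.ofId R₁ R₁) (e₀.codRestrict R₁ hrange) (fun _ _ => Commute.all _ _)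
  let χ : B ≃ₐ[R] R ⊗[R₁] (R₁ ⊗[A₀] B₀) := Φ.trans (Algebra.TensorProduct.cancelBaseChange A₀ R₁ R R B₀).symm
  have hχ : ∀ (a : R₁) (b : B₀), χ.symm (1 ⊗ₜ[R₁] (a ⊗ₜ[A₀] b)) = Φ.symm ((a : R) ⊗ₜ[A₀] b) := fun a b => by
    show Φ.symm (Algebra.TensorProduct.cancelBaseChange A₀ R₁ R R B₀ _) = _
    rw [Algebra.TensorProduct.cancelBaseChange_tmul, Algebra.smul_def, mul_one]
    rfl
  refine ⟨R₁, R₁ ⊗[A₀] B₀, inferInstance, inferInstance, inferInstance, inferInstance, inferInstance, inferInstance,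
    χ, ε, fun b => ?_, fun x hx => ?_⟩
  · induction b using TensorProduct.induction_on with
    | zero => simp
    | add p q hp hq => simp only [TensorProduct.tmul_add, map_add, hp, hq]
    | tmul a b =>
      rw [hχ]
      have : (a : R) ⊗ₜ[A₀] b = (a : R) • ((1 : R) ⊗ₜ[A₀] b) := by rw [TensorProduct.smul_tmul', smul_eq_mul, mul_one]
      rw [this, map_smul, map_smul]
      simp [ε, e₀, e', smul_eq_mul]
      rfl
  · refine ⟨∑ q ∈ (t x).attach, (⟨q.1.1, Algebra.subset_adjoin (Finset.mem_coe.mpr (Finset.mem_union_right _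
      (Finset.mem_biUnion.mpr ⟨x, hx, Finset.mem_image.mpr ⟨q.1, q.2, rfl⟩⟩)))⟩ : R₁) ⊗ₜ[A₀] q.1.2, ?_⟩
    refine χ.symm.injective ?_
    rw [χ.symm_apply_apply, TensorProduct.tmul_sum, map_sum]
    simp only [hχ]
    rw [← map_sum, Finset.sum_attach (t x) (fun q => q.1 ⊗ₜ[A₀] q.2), ← ht x, Φ.symm_apply_apply]

theorem ker_map_mkₐ {R B : Type u} [CommRing R] [CommRing B] [Algebra R B] (I : Ideal B) (R' : Type u) [CommRing R']
    [Algebra R R'] : RingHom.ker (Algebra.TensorProduct.map (AlgHom.id R' R') (Ideal.Quotient.mkₐ R I)) =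
      I.map (Algebra.TensorProduct.includeRight (R := R) (A := R') (B := B)) := by
  refine (Algebra.TensorProduct.lTensor_ker (A := R') (Ideal.Quotient.mkₐ R I)
    (Ideal.Quotient.mkₐ_surjective R I)).trans ?_
  congr 1
  exact Ideal.mk_ker

variable (R B : Type u) [CommRing R] [CommRing B] [Algebra R B]

theorem isDomain_fibre [Algebra.Smooth R B]
    (hconn : ∀ (K : Type u) [Field K] [IsAlgClosed K] [Algebra R K], ConnectedSpace (PrimeSpectrum (K ⊗[R] B)))
    (k : Type u) [Field k] [Algebra R k] : IsDomain (k ⊗[R] B) := by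
  let K := AlgebraicClosure k
  haveI := hconn K
  haveI : Nontrivial (K ⊗[R] B) := PrimeSpectrum.nonempty_iff_nontrivial.mp inferInstance
  haveI : IsDomain (K ⊗[R] B) :=
    S7985.isDomain_of_smooth (k := K) (DynLib.idempotents_of_preconnectedSpace (B := K ⊗[R] B))
  exact (Module.Flat.rTensor_preserves_injective_linearMap (M := B) (IsScalarTower.toAlgHom R k K).toLinearMap
    (algebraMap k K).injective).isDomain
      (Algebra.TensorProduct.map (IsScalarTower.toAlgHom R k K) (AlgHom.id R B)).toRingHom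

/-- The Weil restriction of a closed subscheme agrees with that of an infinitesimal neighbourhood of a section. -/
theorem exists_bound [Algebra.Smooth R B]
    (hconn : ∀ (K : Type u) [Field K] [IsAlgClosed K] [Algebra R K], ConnectedSpace (PrimeSpectrum (K ⊗[R] B)))
    (e : B →ₐ[R] R) (J : Ideal B) (hJ : J.FG) :
    ∃ n : ℕ, ∀ (R' : Type u) [CommRing R'] [Algebra R R'],
      (∀ x ∈ J, (1 : R') ⊗ₜ[R] x = (0 : R' ⊗[R] B)) ↔
        (∀ x ∈ J, (1 : R') ⊗ₜ[R] (Ideal.Quotient.mk (RingHom.ker e ^ (n + 1)) x) = (0 : R' ⊗[R] (B ⧸ RingHom.ker e ^ (n + 1)))) := by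
  classical
  obtain ⟨s, rfl⟩ := hJ
  obtain ⟨R₁, B₁, _, hR₁, _, _, hB₁, _, χ, ε, hε, hs⟩ := exists_descent R B e s
  choose g hg using hs
  let K₁ := RingHom.ker ε
  haveI : IsNoetherianRing B₁ := Algebra.FiniteType.isNoetherianRing R₁ B₁
  haveI hproj : ∀ n, Module.Projective R₁ (B₁ ⧸ K₁ ^ n) :=
    InfNbhd.projective_quotient ε (IsNoetherian.noetherian K₁)
  let I : ℕ → Ideal R₁ := fun n =>
    ⨆ (x : B) (hx : x ∈ s), content (A := R₁) (Ideal.Quotient.mk (K₁ ^ (n + 1)) (g x hx))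
  have hImono : Monotone I := monotone_nat_of_le_succ fun n => iSup₂_mono fun x hx =>
    content_map_le ((Ideal.Quotient.factorₐ R₁ (Ideal.pow_le_pow_right (I := K₁) (Nat.le_succ (n + 1)))).toLinearMap)
      (Ideal.Quotient.mk (K₁ ^ (n + 1 + 1)) (g x hx))
  obtain ⟨N, hN⟩ := monotone_stabilizes_iff_noetherian.mpr (inferInstance : IsNoetherian R₁ R₁) ⟨I, hImono⟩
  refine ⟨N, fun R' _ _ => ⟨fun h x hx => ?_, fun h => ?_⟩⟩
  · have h1 := congrArg (Algebra.TensorProduct.map (AlgHom.id R' R') (Ideal.Quotient.mkₐ R (RingHom.ker e ^ (N + 1))))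
      (h x hx)
    simpa using h1
  letI : Algebra R₁ R' := ((algebraMap R R').comp (algebraMap R₁ R)).toAlgebra
  haveI : IsScalarTower R₁ R R' := IsScalarTower.of_algebraMap_eq fun _ => rfl
  let Θ : R' ⊗[R] B ≃ₐ[R'] R' ⊗[R₁] B₁ :=
    (Algebra.TensorProduct.congr AlgEquiv.refl χ).trans (Algebra.TensorProduct.cancelBaseChange R₁ R R' R' B₁)
  have hΘ : ∀ x b, χ x = 1 ⊗ₜ b → Θ (1 ⊗ₜ x) = 1 ⊗ₜ b := fun x b hb => by
    show Algebra.TensorProduct.cancelBaseChange R₁ R R' R' B₁ ((1 : R') ⊗ₜ χ x) = _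
    rw [hb, Algebra.TensorProduct.cancelBaseChange_tmul, one_smul]
  -- the contents die in `R'`
  have hK : RingHom.ker e ≤ (K₁.map (Algebra.TensorProduct.includeRight (R := R₁) (A := R) (B := B₁))).comap χ := by
    intro b hb
    have key : ∀ z : R ⊗[R₁] B₁, z - algebraMap R (R ⊗[R₁] B₁) (e (χ.symm z)) ∈
        K₁.map (Algebra.TensorProduct.includeRight (R := R₁) (A := R) (B := B₁)) := by
      intro z
      induction z using TensorProduct.induction_on with
      | zero => simp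
      | add p q hp hq =>
        rw [map_add, map_add, map_add, add_sub_add_comm]
        exact add_mem hp hq
      | tmul a c =>
        have h1 : a ⊗ₜ[R₁] c = a • ((1 : R) ⊗ₜ[R₁] c) := by rw [TensorProduct.smul_tmul', smul_eq_mul, mul_one]
        have h2 : a ⊗ₜ[R₁] c - algebraMap R (R ⊗[R₁] B₁) (e (χ.symm (a ⊗ₜ[R₁] c))) =
            algebraMap R (R ⊗[R₁] B₁) a *
              Algebra.TensorProduct.includeRight (c - algebraMap R₁ B₁ (ε c)) := by
          rw [map_sub, AlgHom.commutes, h1, map_smul, map_smul, hε, smul_eq_mul, map_mul, Algebra.smul_def, mul_sub,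
            ← IsScalarTower.algebraMap_apply]
          rfl
        rw [h2]
        exact Ideal.mul_mem_left _ _ (Ideal.mem_map_of_mem _ (by simp [K₁, RingHom.mem_ker]))
    have := key (χ b)
    rwa [χ.symm_apply_apply, RingHom.mem_ker.mp hb, map_zero, sub_zero] at this
  have hIN : I N ≤ RingHom.ker (algebraMap R₁ R') := iSup₂_le fun x hx => (content_le_iff _ R').mp (by
    have h1 := h x (Ideal.subset_span hx)
    have h2 : (1 : R') ⊗ₜ[R] x ∈ (RingHom.ker e ^ (N + 1)).map
        (Algebra.TensorProduct.includeRight (R := R) (A := R') (B := B)) := by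
      rw [← ker_map_mkₐ, RingHom.mem_ker]
      simpa using h1
    have h4 : (1 : R') ⊗ₜ[R₁] g x hx ∈
        (K₁ ^ (N + 1)).map (Algebra.TensorProduct.includeRight (R := R₁) (A := R') (B := B₁)) := by
      rw [← hΘ x _ (hg x hx)]
      refine Ideal.mem_comap.mp ((Ideal.map_le_iff_le_comap (f := (Θ : R' ⊗[R] B →+* R' ⊗[R₁] B₁))).mp ?_ h2)
      rw [Ideal.map_pow, Ideal.map_pow, Ideal.map_pow]
      refine Ideal.pow_right_mono (Ideal.map_le_iff_le_comap.mpr (Ideal.map_le_iff_le_comap.mpr fun b hb' => ?_)) _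
      have hb := hK hb'
      show Θ ((1 : R') ⊗ₜ[R] b) ∈ K₁.map (Algebra.TensorProduct.includeRight (R := R₁) (A := R') (B := B₁))
      let η : R ⊗[R₁] B₁ →ₐ[R₁] R' ⊗[R₁] B₁ :=
        Algebra.TensorProduct.map (IsScalarTower.toAlgHom R₁ R R') (AlgHom.id R₁ B₁)
      have h5 : ∀ z, Θ (1 ⊗ₜ χ.symm z) = η z := fun z => by
        induction z using TensorProduct.induction_on with
        | zero => simp
        | add p q hp hq => simp only [map_add, TensorProduct.tmul_add, hp, hq]
        | tmul a c =>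
          show Algebra.TensorProduct.cancelBaseChange R₁ R R' R' B₁ ((1 : R') ⊗ₜ χ (χ.symm (a ⊗ₜ c))) = _
          rw [χ.apply_symm_apply, Algebra.TensorProduct.cancelBaseChange_tmul, Algebra.smul_def, mul_one]
          rfl
      have h6 := Ideal.mem_map_of_mem η (Ideal.mem_comap.mp hb)
      rw [← h5, χ.symm_apply_apply] at h6
      refine SetLike.le_def.mp (le_of_eq ?_) h6
      rw [Ideal.map_mapₐ]
      congr 1
      ext c
      simp [η]
    rw [← ker_map_mkₐ, RingHom.mem_ker] at h4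
    simpa using h4)
  -- over the closed stratum of the contents
  let R₂ := R₁ ⧸ I N
  letI : Algebra R₂ R' := (Ideal.Quotient.lift (I N) (algebraMap R₁ R') fun a ha => hIN ha).toAlgebra
  haveI : IsScalarTower R₁ R₂ R' := IsScalarTower.of_algebraMap_eq fun _ => rfl
  let ε₂ : R₂ ⊗[R₁] B₁ →ₐ[R₂] R₂ := Algebra.TensorProduct.lift (AlgHom.id R₂ R₂) ((Algebra.ofId R₁ R₂).comp ε)
    (fun _ _ => Commute.all _ _)
  haveI : Module.Flat R₁ B₁ := inferInstance
  intro x hx
  suffices h0 : Ideal.span (s : Set B) ≤ RingHom.ker (Algebra.TensorProduct.includeRight (R := R) (A := R') (B := B)) from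
    h0 hx
  rw [Ideal.span_le]
  intro x hx
  show (1 : R') ⊗ₜ[R] x = 0
  apply Θ.injective
  rw [map_zero, hΘ x _ (hg x hx)]
  have hmem : ∀ n : ℕ, (1 : R₂) ⊗ₜ[R₁] g x hx ∈ RingHom.ker ε₂ ^ n := by
    intro n
    refine Ideal.pow_le_pow_right (Nat.le_succ n) ?_
    have h1 : I n ≤ RingHom.ker (algebraMap R₁ R₂) := by
      rw [Ideal.Quotient.algebraMap_eq, Ideal.mk_ker]
      rcases le_total n N with h' | h'
      · exact hImono h'
      · exact (hN n h').ge
    have h2 := (content_le_iff (Ideal.Quotient.mk (K₁ ^ (n + 1)) (g x hx)) R₂).mpr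
      ((le_iSup₂ (f := fun (x : B) (hx : x ∈ s) => content (A := R₁) (Ideal.Quotient.mk (K₁ ^ (n + 1)) (g x hx))) x hx).trans h1)
    have h4 : (1 : R₂) ⊗ₜ[R₁] g x hx ∈
        (K₁ ^ (n + 1)).map (Algebra.TensorProduct.includeRight (R := R₁) (A := R₂) (B := B₁)) := by
      rw [← ker_map_mkₐ, RingHom.mem_ker]
      simpa using h2
    rw [Ideal.map_pow] at h4
    refine Ideal.pow_right_mono (Ideal.map_le_iff_le_comap.mpr fun c hc => ?_) _ h4
    simp [ε₂, RingHom.mem_ker.mp hc, RingHom.mem_ker]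
  have hfin := tmul_eq_zero_of_mem_pow (R' := R') ε₂ (fun p _ => by
    letI : Algebra R₁ p.ResidueField := ((algebraMap R p.ResidueField).comp (algebraMap R₁ R)).toAlgebra
    haveI : IsScalarTower R₁ R p.ResidueField := IsScalarTower.of_algebraMap_eq fun _ => rfl
    haveI : IsScalarTower R₁ R₂ p.ResidueField := IsScalarTower.of_algebraMap_eq fun _ => rfl
    haveI := isDomain_fibre R B hconn p.ResidueField
    exact MulEquiv.isDomain (p.ResidueField ⊗[R] B)
      ((Algebra.TensorProduct.cancelBaseChange R₁ R₂ p.ResidueField p.ResidueField B₁).toRingEquiv.trans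
        ((Algebra.TensorProduct.cancelBaseChange R₁ R p.ResidueField p.ResidueField B₁).symm.toRingEquiv.trans
          (Algebra.TensorProduct.congr (AlgEquiv.refl (R := p.ResidueField) (A₁ := p.ResidueField)) χ).symm.toRingEquiv)).toMulEquiv) hmem
  have h9 := congrArg (Algebra.TensorProduct.cancelBaseChange R₁ R₂ R' R' B₁) hfin
  simpa using h9

end Groth.Agent.Deform.WeilSection
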